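import Groth.Agent.Lib.RelPC8.Restrict
import Groth.Agent.Lib.DMod.Amplitude

/-!
Pseudo-coherence relative to a base ring does not depend on the presentation.
-/

set_option autoImplicit false
set_option backward.isDefEq.respectTransparency false
set_option backward.isDefEq.respectTransparency.types false

universe u

open CategoryTheory CategoryTheory.Limits CategoryTheory.Pretriangulated MvPolynomial

attribute [local instance] HasDerivedCategory.standard

namespace Groth.Agent.RelPC8

open DMod PCMor4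

/-- Restrictions compose. -/
noncomputable def restrictComp {Q P A : Type u} [CommRing Q] [CommRing P] [CommRing A] (σ : Q →+* P) (τ : P →+* A)
    (K : Dual.D A) : (DRing.restrictD (τ.comp σ)).obj K ≅ (DRing.restrictD σ).obj ((DRing.restrictD τ).obj K) :=
  have : (DerivedCategory.Q : DRing.Cx A ⥤ Dual.D A).EssSurj :=
    Localization.essSurj _ (HomologicalComplex.quasiIso (ModuleCat.{u} A) (ComplexShape.up ℤ))
  let L : DRing.Cx A := (DerivedCategory.Q : DRing.Cx A ⥤ Dual.D A).objPreimage K
  let e : DerivedCategory.Q.obj L ≅ K := (DerivedCategory.Q : DRing.Cx A ⥤ Dual.D A).objObjPreimageIso K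
  let c : ((rS (τ.comp σ)).mapHomologicalComplex (ComplexShape.up ℤ)).obj L ≅
      ((rS σ).mapHomologicalComplex (ComplexShape.up ℤ)).obj
        (((rS τ).mapHomologicalComplex (ComplexShape.up ℤ)).obj L) :=
    HomologicalComplex.Hom.isoOfComponents
      (fun i => (ModuleCat.restrictScalarsComp.{u} σ τ).app (L.X i))
      (fun i j _ => ((ModuleCat.restrictScalarsComp.{u} σ τ).hom.naturality (L.d i j)).symm)
  (DRing.restrictD (τ.comp σ)).mapIso e.symm ≪≫ (rS (τ.comp σ)).mapDerivedCategoryFactors.app L ≪≫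
    DerivedCategory.Q.mapIso c ≪≫
    ((rS σ).mapDerivedCategoryFactors.app (((rS τ).mapHomologicalComplex (ComplexShape.up ℤ)).obj L)).symm ≪≫
    (DRing.restrictD σ).mapIso (((rS τ).mapDerivedCategoryFactors.app L).symm ≪≫ (DRing.restrictD τ).mapIso e)

theorem pv_comp_iff {Q P A : Type u} [CommRing Q] [CommRing P] [CommRing A] {σ : Q →+* P} (hσ : PCR σ)
    (τ : P →+* A) (m : ℤ) (K : Dual.D A) : PV (τ.comp σ) m K ↔ PV τ m K :=
  ⟨fun h => (pc_restrict_iff hσ m _).1 (pc_of_iso (restrictComp σ τ K) h),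
    fun h => pc_of_iso (restrictComp σ τ K).symm ((pc_restrict_iff hσ m _).2 h)⟩

theorem pv_eval_comp_iff {R A : Type u} [CommRing R] [CommRing A] {m n : ℕ}
    (φ : MvPolynomial (Fin n) R →+* A) (ψ : MvPolynomial (Fin m) R →+* A)
    (hC : φ.comp C = ψ.comp C) (hφ : Function.Surjective φ) (hψ : Function.Surjective ψ) (l : ℤ) (K : Dual.D A) :
    PV φ l K ↔ PV ψ l K := by
  choose g hg using fun j => hφ (ψ (X j))
  choose g' hg' using fun i => hψ (φ (X i))
  let σ := eval₂Hom (RingHom.id (MvPolynomial (Fin n) R)) g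
  let σ' := eval₂Hom (RingHom.id (MvPolynomial (Fin m) R)) g'
  let e := commAlgEquiv R (Fin m) (Fin n)
  have heq : φ.comp σ = (ψ.comp σ').comp e.toRingEquiv.toRingHom := by
    refine MvPolynomial.ringHom_ext (fun r => ?_) fun j => ?_
    · have hC0 : (φ.comp σ).comp C = φ := RingHom.ext fun p => by simp [σ]
      have hC' : ((ψ.comp σ').comp e.toRingEquiv.toRingHom).comp C = φ := by
        refine MvPolynomial.ringHom_ext (fun a => ?_) fun i => ?_
        · simp only [RingHom.comp_apply]
          show ψ (σ' (e (C (C a)))) = _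
          rw [commAlgEquiv_C, map_C, eval₂Hom_C, RingHom.id_apply]
          exact (RingHom.congr_fun hC a).symm
        · simp only [RingHom.comp_apply]
          show ψ (σ' (e (C (X i)))) = _
          rw [commAlgEquiv_C, map_X, eval₂Hom_X']
          exact hg' i
      exact RingHom.congr_fun (hC0.trans hC'.symm) r
    · show φ (σ (X j)) = ψ (σ' (e (X j)))
      rw [eval₂Hom_X', hg, commAlgEquiv_X, eval₂Hom_C]
      rfl
  rw [← pv_comp_iff (pcr_eval m g) φ l K, ← pv_comp_iff (pcr_eval n g') ψ l K,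
    ← pv_comp_iff (pcr_of_bijective e.toRingEquiv.toRingHom e.bijective) (ψ.comp σ') l K]
  show PV (φ.comp σ) l K ↔ _
  rw [heq]

theorem via_iff {R A : Type u} [CommRing R] [CommRing A] [Algebra R A] {n k : ℕ}
    (α : MvPolynomial (Fin n) R →ₐ[R] A) (hα : Function.Surjective α)
    (β : MvPolynomial (Fin k) R →ₐ[R] A) (hβ : Function.Surjective β) (m : ℤ) (K : Dual.D A) :
    DerCA.IsRelPseudoCoherentVia α m K ↔ DerCA.IsRelPseudoCoherentVia β m K :=
  pv_eval_comp_iff α.toRingHom β.toRingHom
    (RingHom.ext fun r => (α.commutes r).trans (β.commutes r).symm) hα hβ m K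

theorem rel_iff {R A : Type u} [CommRing R] [CommRing A] [Algebra R A] {n : ℕ}
    (α : MvPolynomial (Fin n) R →ₐ[R] A) (hα : Function.Surjective α) (m : ℤ) (K : Dual.D A) :
    DerCA.IsRelPseudoCoherent R A m K ↔ DerCA.IsRelPseudoCoherentVia α m K :=
  ⟨fun ⟨_, β, hβ, h⟩ => (via_iff α hα β hβ m K).2 h, fun h => ⟨n, α, hα, h⟩⟩

theorem relAll_iff {R A : Type u} [CommRing R] [CommRing A] [Algebra R A] {n : ℕ}
    (α : MvPolynomial (Fin n) R →ₐ[R] A) (hα : Function.Surjective α) (K : Dual.D A) :
    DerCA.IsRelPseudoCoherentAll R A K ↔ ∀ m, DerCA.IsRelPseudoCoherentVia α m K :=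
  forall_congr' fun m => rel_iff α hα m K

theorem exists_presentation (R A : Type u) [CommRing R] [CommRing A] [Algebra R A] [Algebra.FiniteType R A] :
    ∃ (n : ℕ) (α : MvPolynomial (Fin n) R →ₐ[R] A), Function.Surjective α :=
  Algebra.FiniteType.iff_quotient_mvPolynomial''.1 ‹_›

theorem via_module_iff {R A : Type u} [CommRing R] [CommRing A] [Algebra R A] {n : ℕ}
    (α : MvPolynomial (Fin n) R →ₐ[R] A) (m : ℤ) (M : Type u) [AddCommGroup M] [Module A M] :
    DerCA.IsRelPseudoCoherentVia α m (Dual.inD A M) ↔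
      @DRing.IsPseudoCoherentModule (MvPolynomial (Fin n) R) _ m M _ (Module.compHom M α.toRingHom) :=
  ⟨fun h => pc_of_iso (singleRes α.toRingHom 0 (ModuleCat.of A M)) h,
    fun h => pc_of_iso (singleRes α.toRingHom 0 (ModuleCat.of A M)).symm h⟩

theorem bddAbove_iff {Q A : Type u} [CommRing Q] [CommRing A] (χ : Q →+* A) (K : Dual.D A) :
    (∃ b : ℤ, ∀ i : ℤ, b < i → Subsingleton (Dual.HD Q ((DRing.restrictD χ).obj K) i)) ↔
      ∃ b : ℤ, ∀ i : ℤ, b < i → Subsingleton (Dual.HD A K i) :=
  exists_congr fun b => forall₂_congr fun i _ => (hdRes χ K i).toLinearEquiv.toEquiv.subsingleton_congr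

theorem finite_restrict_iff {Q A : Type u} [CommRing Q] [CommRing A] (χ : Q →+* A) (hχ : Function.Surjective χ)
    (M : ModuleCat.{u} A) : Module.Finite Q ((rS χ).obj M) ↔ Module.Finite A M := by
  letI := χ.toAlgebra
  letI : Module Q M := Module.compHom _ χ
  haveI : IsScalarTower Q A M := ⟨fun r s x => by rw [Algebra.smul_def, mul_smul]; rfl⟩
  haveI : Module.Finite Q A := Module.Finite.of_surjective (Algebra.linearMap Q A) hχ
  exact ⟨fun h => have : Module.Finite Q M := h; Module.Finite.of_restrictScalars_finite Q A M,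
    fun h => show Module.Finite Q M from Module.Finite.trans A M⟩

/-- Relative pseudo-coherence over a Noetherian base. -/
theorem via_noetherian_iff {R A : Type u} [CommRing R] [IsNoetherianRing R] [CommRing A] [Algebra R A] {n : ℕ}
    (α : MvPolynomial (Fin n) R →ₐ[R] A) (hα : Function.Surjective α) (m : ℤ) (K : Dual.D A) :
    DerCA.IsRelPseudoCoherentVia α m K ↔
      (∃ b : ℤ, ∀ i : ℤ, b < i → Subsingleton (Dual.HD A K i)) ∧ ∀ i : ℤ, m ≤ i → Module.Finite A (Dual.HD A K i) := by
  have key : ∀ i, Module.Finite (MvPolynomial (Fin n) R)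
      (Dual.HD (MvPolynomial (Fin n) R) ((DRing.restrictD (α : MvPolynomial (Fin n) R →+* A)).obj K) i) ↔
      Module.Finite A (Dual.HD A K i) := fun i =>
    (Module.Finite.equiv_iff (hdRes (α : MvPolynomial (Fin n) R →+* A) K i).toLinearEquiv).trans
      (finite_restrict_iff _ hα _)
  constructor
  · intro h
    obtain ⟨b, hb⟩ := pc_bddAbove h
    refine ⟨⟨b, (isLE_iff K b).1 ((isLE_restrict_iff _ K b).1 hb)⟩, fun i hi => (key i).1 ?_⟩
    obtain ⟨h1, h2⟩ := homology_of_pc coherent_of_noetherian h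
    rcases eq_or_lt_of_le hi with rfl | hi
    · exact h1
    · have := h2 i hi; infer_instance
  · rintro ⟨⟨b, hb⟩, h⟩
    haveI : ((DRing.restrictD (α : MvPolynomial (Fin n) R →+* A)).obj K).IsLE b :=
      (isLE_restrict_iff _ K b).2 ((isLE_iff K b).2 hb)
    refine pc_of_homology (b := b) fun i hi => ?_
    have := (key i).2 (h i hi)
    exact pcModule_of_noetherian _ _

end Groth.Agent.RelPC8
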