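import Groth.Agent.Lib.RelPC8.Via
import Groth.Agent.Lib.KFlat.Module
import Groth.Agent.Lib.DBaseChange.PC

/-!
Relative pseudo-coherence and base change along pushout squares.
-/

set_option autoImplicit false
set_option backward.isDefEq.respectTransparency false
set_option backward.isDefEq.respectTransparency.types false

universe u

open CategoryTheory CategoryTheory.Limits CategoryTheory.Pretriangulated TensorProduct

attribute [local instance] HasDerivedCategory.standard

namespace Groth.Agent.RelPC8

open DMod PCMor4

/-- Extension of scalars. -/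
noncomputable abbrev eS {P P' : Type u} [CommRing P] [CommRing P'] (φ : P →+* P') :
    ModuleCat.{u} P ⥤ ModuleCat.{u} P' := ModuleCat.extendScalars.{u, u, u} φ

/-- Termwise extension of scalars. -/
noncomputable abbrev eCx {P P' : Type u} [CommRing P] [CommRing P'] (φ : P →+* P') :
    DRing.Cx P ⥤ DRing.Cx P' := (eS φ).mapHomologicalComplex (ComplexShape.up ℤ)

section Square

variable (P P' A A' : Type u) [CommRing P] [CommRing P'] [CommRing A] [CommRing A'] [Algebra P P'] [Algebra P A]
  [Algebra A A'] [Algebra P' A'] [Algebra P A'] [IsScalarTower P P' A'] [IsScalarTower P A A']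

/-- The comparison for a commutative square. -/
noncomputable def sqMap : rS (algebraMap P A) ⋙ eS (algebraMap P P') ⟶
    eS (algebraMap A A') ⋙ rS (algebraMap P' A') where
  app X := ((ModuleCat.extendRestrictScalarsAdj.{u, u, u} (algebraMap P P')).homEquiv _ _).symm
    ((rS (algebraMap P A)).map ((ModuleCat.extendRestrictScalarsAdj.{u, u, u} (algebraMap A A')).unit.app X) ≫
      (ModuleCat.restrictScalarsComp' (algebraMap P A) (algebraMap A A') (algebraMap P A')
          (IsScalarTower.algebraMap_eq P A A')).inv.app _ ≫
      (ModuleCat.restrictScalarsComp' (algebraMap P P') (algebraMap P' A') (algebraMap P A')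
          (IsScalarTower.algebraMap_eq P P' A')).hom.app _)
  naturality X Y f := by
    rw [Functor.comp_map, ← Adjunction.homEquiv_naturality_left_symm, ← Adjunction.homEquiv_naturality_right_symm]
    refine congrArg _ ?_
    ext x
    exact congrArg (fun g : X ⟶ (rS (algebraMap A A')).obj ((eS (algebraMap A A')).obj Y) => g x)
      ((ModuleCat.extendRestrictScalarsAdj.{u, u, u} (algebraMap A A')).unit.naturality f)

variable [Algebra.IsPushout P P' A A']

omit [Algebra P P'] [Algebra A A'] [IsScalarTower P P' A'] [IsScalarTower P A A'] [Algebra.IsPushout P P' A A'] in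
theorem isIso_sqMap_aux (f : P →+* P') (g : A →+* A') [I₁ : Algebra P P'] (h₁ : I₁ = f.toAlgebra)
    [I₂ : Algebra A A'] (h₂ : I₂ = g.toAlgebra) [IsScalarTower P P' A'] [IsScalarTower P A A']
    [Algebra.IsPushout P P' A A'] (X : ModuleCat.{u} A) : IsIso ((sqMap P P' A A').app X) := by
  subst h₁ h₂
  letI := f.toAlgebra
  letI := g.toAlgebra
  letI : Module P X := Module.compHom X (algebraMap P A)
  haveI : IsScalarTower P A X := ⟨fun r s x => by rw [Algebra.smul_def, mul_smul]; rfl⟩
  let E := (Algebra.IsPushout.cancelBaseChange P P' A A' X).symm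
  rw [ConcreteCategory.isIso_iff_bijective]
  have key : ∀ z : P' ⊗[P] X, (show A' ⊗[A] X from (sqMap P P' A A').app X z) = E z := by
    intro z
    induction z using TensorProduct.induction_on with
    | zero => exact (map_zero _).trans (map_zero E).symm
    | add a b ha hb => exact (map_add _ a b).trans ((congrArg₂ (· + ·) ha hb).trans (map_add E a b).symm)
    | tmul s m =>
      rw [Algebra.IsPushout.cancelBaseChange_symm_tmul]
      show (algebraMap P' A' s * 1 : A') ⊗ₜ[A] m = _
      rw [mul_one]
  exact ⟨fun a b h => E.injective ((key a).symm.trans (h.trans (key b))),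
    fun y => ⟨E.symm y, (key _).trans (E.apply_symm_apply y)⟩⟩

theorem isIso_sqMap (X : ModuleCat.{u} A) : IsIso ((sqMap P P' A A').app X) := by
  have h₁ : ‹Algebra P P'› = (algebraMap P P').toAlgebra := Algebra.algebra_ext _ _ fun _ => rfl
  have h₂ : ‹Algebra A A'› = (algebraMap A A').toAlgebra := Algebra.algebra_ext _ _ fun _ => rfl
  have h3 := @isIso_sqMap_aux P P' A A' _ _ _ _ ‹Algebra P A› ‹Algebra P' A'› ‹Algebra P A'› (algebraMap P P')
    (algebraMap A A') ‹Algebra P P'› h₁ ‹Algebra A A'› h₂ ‹IsScalarTower P P' A'› ‹IsScalarTower P A A'› ‹_› X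
  exact h3

/-- The comparison on complexes. -/
noncomputable def sqIso (F : DRing.Cx A) :
    (eCx (algebraMap P P')).obj (((rS (algebraMap P A)).mapHomologicalComplex (ComplexShape.up ℤ)).obj F) ≅
      ((rS (algebraMap P' A')).mapHomologicalComplex (ComplexShape.up ℤ)).obj ((eCx (algebraMap A A')).obj F) :=
  HomologicalComplex.Hom.isoOfComponents
    (fun i => @asIso _ _ _ _ _ (isIso_sqMap P P' A A' (F.X i)))
    (fun i j _ => ((sqMap P P' A A').naturality (F.d i j)).symm)

end Square

section Flat

variable {P P' : Type u} [CommRing P] [CommRing P'] [Algebra P P']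

theorem preservesHomology_eS [Module.Flat P P'] : (eS (algebraMap P P')).PreservesHomology :=
  haveI : PreservesFiniteColimits (eS (algebraMap P P')) := DBaseChange.preservesFiniteColimits_ext _
  haveI : (eS (algebraMap P P')).PreservesMonomorphisms := ⟨fun {M N} f _ => by
    have key : ∀ [I : Algebra P P'] [Module.Flat P P'] (φ : P →+* P'), I = φ.toAlgebra →
        Mono ((eS φ).map f) := by
      intro I hI φ h
      subst h
      letI := φ.toAlgebra
      exact (ModuleCat.mono_iff_injective _).2 (Module.Flat.lTensor_preserves_injective_linearMap (M := P') f.hom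
        ((ModuleCat.mono_iff_injective f).1 inferInstance))
    exact key (algebraMap P P') (Algebra.algebra_ext _ _ fun _ => rfl)⟩
  Functor.preservesHomology_of_preservesMonos_and_cokernels _

theorem pc_eCx [Module.Flat P P'] {m : ℤ} (X : DRing.Cx P) (hX : DRing.IsPseudoCoherent P m (DRing.toD X)) :
    DRing.IsPseudoCoherent P' m (DRing.toD ((eCx (algebraMap P P')).obj X)) := by
  obtain ⟨E, a, b, α, hE, hF, h1, h2⟩ := hX
  have := ((vanishesOutside_iff E a b).1 hE).2
  have : E.IsKProjective := isKProjective b fun i => have := (hF i).2; inferInstance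
  obtain ⟨f, rfl⟩ := exists_map_eq α
  have hG := preservesHomology_eS (P := P) (P' := P')
  obtain ⟨g, h, hT⟩ := exists_cone_triangle f
  have hC := (isLE_iff _ (m - 1)).1 ((cone_isLE_iff _ hT m).2 ⟨h1, h2⟩)
  obtain ⟨g', h', hT'⟩ := exists_cone_triangle ((eCx (algebraMap P P')).map f)
  have hC' : (DRing.toD (CochainComplex.mappingCone ((eCx (algebraMap P P')).map f))).IsLE (m - 1) := by
    rw [isLE_iff]
    intro i hi
    have h0 : Subsingleton ((CochainComplex.mappingCone f).homology i) :=
      (subsingleton_HD_toD_iff _ i).1 (hC i hi)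
    rw [subsingleton_HD_toD_iff]
    have hz : IsZero (((eCx (algebraMap P P')).obj (CochainComplex.mappingCone f)).homology i) :=
      IsZero.of_iso ((eS (algebraMap P P')).map_isZero ((isZero_iff_subsingleton _).2 h0))
        (((CochainComplex.mappingCone f).sc i).mapHomologyIso (eS (algebraMap P P')))
    exact ModuleCat.subsingleton_of_isZero (hz.of_iso ((HomologicalComplex.homologyFunctor _ _ i).mapIso
      (CochainComplex.mappingCone.mapHomologicalComplexIso f (eS (algebraMap P P'))).symm))
  obtain ⟨i1, i2⟩ := (cone_isLE_iff _ hT' m).1 hC'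
  exact ⟨(eCx (algebraMap P P')).obj E, a, b, _, DBaseChange.vanishesOutside_ext _ hE,
    DBaseChange.termwiseFiniteFree_ext _ hF, i1, i2⟩

variable {A A' : Type u} [CommRing A] [CommRing A'] [Algebra P A] [Algebra A A'] [Algebra P' A'] [Algebra P A']
  [IsScalarTower P P' A'] [IsScalarTower P A A'] [Algebra.IsPushout P P' A A']

/-- Flat base change of relative pseudo-coherence. -/
theorem pv_eCx [Module.Flat P P'] {m : ℤ} (F : DRing.Cx A) (h : PV (algebraMap P A) m (DRing.toD F)) :
    PV (algebraMap P' A') m (DRing.toD ((eCx (algebraMap A A')).obj F)) := by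
  have h1 := pc_eCx (P' := P') _ (pc_of_iso ((rS (algebraMap P A)).mapDerivedCategoryFactors.app F) h)
  exact pc_of_iso (DerivedCategory.Q.mapIso (sqIso P P' A A' F) ≪≫
    ((rS (algebraMap P' A')).mapDerivedCategoryFactors.app _).symm) h1

end Flat

end Groth.Agent.RelPC8
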