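import Groth.Agent.Lib.RelPC8.Via
import Groth.Agent.Lib.PCMor4.Finite

/-!
Relative pseudo-coherence along finite maps and pseudo-coherent intermediate algebras.
-/

set_option autoImplicit false
set_option backward.isDefEq.respectTransparency false
set_option backward.isDefEq.respectTransparency.types false

universe u

open MvPolynomial

attribute [local instance] HasDerivedCategory.standard
attribute [local instance] MvPolynomial.algebraMvPolynomial

namespace Groth.Agent.RelPC8

open DMod PCMor4

/-- Adjoining one integral element. -/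
theorem pv_polynomial_iff {P B : Type u} [CommRing P] [CommRing B] (τ : Polynomial P →+* B)
    (hx : (τ.comp Polynomial.C).IsIntegralElem (τ Polynomial.X)) (m : ℤ) (K : Dual.D B) :
    PV τ m K ↔ PV (τ.comp Polynomial.C) m K := by
  obtain ⟨p, hp, hp0⟩ := hx
  have hτp : τ p = 0 := by
    rw [← hp0]
    exact RingHom.congr_fun (Polynomial.ringHom_ext (f := τ)
      (g := Polynomial.eval₂RingHom (τ.comp Polynomial.C) (τ Polynomial.X)) (fun a => by simp) (by simp)) p
  let σ : Polynomial P →+* AdjoinRoot p := AdjoinRoot.mk p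
  have hσs : Function.Surjective σ := AdjoinRoot.mk_surjective
  have hσk : RingHom.ker σ = Ideal.span {p} := by
    ext a; simp [σ, AdjoinRoot.mk_eq_zero, Ideal.mem_span_singleton]
  have hσ : PCR σ := pcr_of_regular σ hσs p (fun a ha => (hp.isRegular.left (by simpa using ha))) hσk
  let τ' : AdjoinRoot p →+* B := σ.liftOfSurjective hσs ⟨τ, by
    rw [hσk, Ideal.span_le, Set.singleton_subset_iff]; exact hτp⟩
  have hτ' : τ'.comp σ = τ := σ.liftOfSurjective_comp hσs ⟨τ, _⟩
  have hpcn : ∀ k, PCn P k (AdjoinRoot p) := fun k => by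
    haveI := Module.Free.of_basis (AdjoinRoot.powerBasis' hp).basis
    haveI := Module.Finite.of_basis (AdjoinRoot.powerBasis' hp).basis
    exact pcn_finiteProjective k _
  have hof : PCR (σ.comp Polynomial.C) := by
    have e₁ : (σ.comp Polynomial.C).toAlgebra = (AdjoinRoot.instAlgebra p : Algebra P (AdjoinRoot p)) :=
      Algebra.algebra_ext _ _ fun _ => rfl
    show ∀ k, @PCn P _ k _ _ (σ.comp Polynomial.C).toAlgebra.toModule
    rw [e₁]
    exact hpcn
  rw [← hτ', pv_comp_iff hσ τ', RingHom.comp_assoc, pv_comp_iff hof τ']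

theorem pv_mvPolynomial_iff {A B : Type u} [CommRing A] [CommRing B] (m : ℤ) (K : Dual.D B) :
    ∀ {n : ℕ} (φ : MvPolynomial (Fin n) A →+* B), (φ.comp C).IsIntegral → (PV φ m K ↔ PV (φ.comp C) m K) := by
  intro n
  induction n with
  | zero =>
    intro φ _
    exact (pv_comp_iff (pcr_of_bijective C ⟨C_injective _ _, C_surjective _⟩) φ m K).symm
  | succ n ih =>
    intro φ hint
    let e := (MvPolynomial.finSuccEquiv A n).symm.toRingEquiv.toRingHom
    have he : PCR e := pcr_of_bijective e (MvPolynomial.finSuccEquiv A n).symm.bijective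
    let ψ := (φ.comp e).comp Polynomial.C
    have hC : ψ.comp C = φ.comp C := RingHom.ext fun a => congrArg φ (by
      show (MvPolynomial.finSuccEquiv A n).symm (Polynomial.C (C a)) = C a
      exact RingHom.congr_fun (MvPolynomial.finSuccEquiv_comp_C_eq_C n) a)
    have hint' : (ψ.comp C).IsIntegral := by rw [hC]; exact hint
    rw [← pv_comp_iff he φ, pv_polynomial_iff _ ((RingHom.IsIntegral.tower_top _ _ hint') _), ih ψ hint', hC]

section
variable {R A B : Type u} [CommRing R] [CommRing A] [CommRing B] [Algebra R A] [Algebra A B] [Algebra R B]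
  [IsScalarTower R A B]

theorem exists_tower_presentation {n k : ℕ} (α : MvPolynomial (Fin n) R →ₐ[R] A) (hα : Function.Surjective α)
    (β : MvPolynomial (Fin k) A →ₐ[A] B) (hβ : Function.Surjective β) :
    ∃ (γ : MvPolynomial (Fin (k + n)) R →ₐ[R] B), Function.Surjective γ ∧
      γ.toRingHom = (β.toRingHom.comp (MvPolynomial.map α.toRingHom)).comp
        (blockEquiv R k n).toRingEquiv.toRingHom := by
  let χ := (β.toRingHom.comp (MvPolynomial.map α.toRingHom)).comp (blockEquiv R k n).toRingEquiv.toRingHom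
  refine ⟨{ χ with commutes' := fun r => ?_ }, (hβ.comp (map_surjective α.toRingHom hα)).comp
    (blockEquiv R k n).surjective, rfl⟩
  show β (MvPolynomial.map α.toRingHom (blockEquiv R k n (algebraMap R _ r))) = _
  rw [(blockEquiv R k n).commutes, show algebraMap R (MvPolynomial (Fin k) (MvPolynomial (Fin n) R)) r = C (C r) from rfl,
    map_C, show C (α.toRingHom (C r)) = algebraMap A (MvPolynomial (Fin k) A) (α (C r)) from rfl, β.commutes,
    show α (C r) = algebraMap R A r from α.commutes r, ← IsScalarTower.algebraMap_apply]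

theorem rel_tower_iff {n k : ℕ} (α : MvPolynomial (Fin n) R →ₐ[R] A) (hα : Function.Surjective α)
    (β : MvPolynomial (Fin k) A →ₐ[A] B) (hβ : Function.Surjective β) (m : ℤ) (K : Dual.D B) :
    DerCA.IsRelPseudoCoherent R B m K ↔ PV (β.toRingHom.comp (MvPolynomial.map α.toRingHom)) m K := by
  obtain ⟨γ, hγ, hγ'⟩ := exists_tower_presentation α hα β hβ
  rw [rel_iff γ hγ]
  show PV γ.toRingHom m K ↔ _
  rw [hγ']
  exact pv_comp_iff (pcr_of_bijective (blockEquiv R k n).toRingEquiv.toRingHom (blockEquiv R k n).bijective) _ m K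

theorem rel_iff_of_finite [Algebra.FiniteType R A] [Module.Finite A B] (m : ℤ) (K : Dual.D B) :
    DerCA.IsRelPseudoCoherent R B m K ↔
      DerCA.IsRelPseudoCoherent R A m ((DRing.restrictD (algebraMap A B)).obj K) := by
  obtain ⟨n, α, hα⟩ := exists_presentation R A
  obtain ⟨k, β, hβ⟩ := exists_presentation A B
  rw [rel_tower_iff α hα β hβ, rel_iff α hα]
  have hC : (β.toRingHom.comp (MvPolynomial.map α.toRingHom)).comp C = (algebraMap A B).comp α.toRingHom :=
    RingHom.ext fun p => by
      show β (MvPolynomial.map α.toRingHom (C p)) = algebraMap A B (α p)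
      rw [map_C]
      exact β.commutes _
  have hint : ((algebraMap A B).comp α.toRingHom).IsIntegral :=
    RingHom.IsIntegral.trans _ _ (RingHom.isIntegral_of_surjective _ hα)
      (RingHom.Finite.to_isIntegral (RingHom.finite_algebraMap.2 ‹_›))
  rw [pv_mvPolynomial_iff m K _ (by rw [hC]; exact hint), hC]
  exact ⟨fun h => pc_of_iso (restrictComp α.toRingHom (algebraMap A B) K) h,
    fun h => pc_of_iso (restrictComp α.toRingHom (algebraMap A B) K).symm h⟩

theorem pcr_of_relAll {n : ℕ} (α : MvPolynomial (Fin n) R →ₐ[R] A) (hα : Function.Surjective α)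
    (hA : DerCA.IsRelPseudoCoherentModuleAll R A A) : PCR α.toRingHom := by
  have h := (relAll_iff α hα _).1 hA
  intro k
  exact (via_module_iff α (-(k : ℤ)) A).1 (h _)

theorem rel_intermediate_iff [Algebra.FiniteType R A] [Algebra.FiniteType A B]
    (hA : DerCA.IsRelPseudoCoherentModuleAll R A A) (m : ℤ) (K : Dual.D B) :
    DerCA.IsRelPseudoCoherent A B m K ↔ DerCA.IsRelPseudoCoherent R B m K := by
  obtain ⟨n, α, hα⟩ := exists_presentation R A
  obtain ⟨k, β, hβ⟩ := exists_presentation A B
  rw [rel_tower_iff α hα β hβ, rel_iff β hβ,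
    pv_comp_iff (pcr_map (pcr_of_relAll α hα hA) k) β.toRingHom]
  rfl

end

end Groth.Agent.RelPC8
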