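import Groth.Agent.Lib.RelPC8.TensorPC
import Groth.Agent.Lib.RelPC8.Tower
import Mathlib.Algebra.Category.ModuleCat.ChangeOfRings
import Mathlib.RingTheory.TensorProduct.MvPolynomial

/-!
Relative pseudo-coherence is stable under base change to a relatively pseudo-coherent algebra.
-/

set_option autoImplicit false
set_option backward.isDefEq.respectTransparency false
set_option backward.isDefEq.respectTransparency.types false

universe u

open CategoryTheory CategoryTheory.Limits CategoryTheory.Pretriangulated MonoidalCategory TensorProduct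

attribute [local instance] HasDerivedCategory.standard
attribute [local instance] MvPolynomial.algebraMvPolynomial

namespace Groth.Agent.RelPC8

open DMod PCMor4 KFlat KFlat.Module

variable {Q B : Type u} [CommRing Q] [CommRing B] (β : Q →+* B)

/-- `B ⊗ X` as a module over the source, two ways. -/
noncomputable def tensorEquiv (X : ModuleCat.{u} Q) :
    ((TM Q).obj ((rS β).obj (ModuleCat.of B B))).obj X ≅ (rS β).obj ((eS β).obj X) :=
  letI := β.toAlgebra
  LinearEquiv.toModuleIso
    ({ toFun := fun z => z
       map_add' := fun _ _ => rfl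
       map_smul' := fun q z => by
         induction z using TensorProduct.induction_on with
         | zero => exact (smul_zero q).trans (smul_zero (β q)).symm
         | add x y hx hy => exact (smul_add q x y).trans ((congrArg₂ (· + ·) hx hy).trans (smul_add (β q) x y).symm)
         | tmul b x => rfl
       invFun := fun z => z
       left_inv := fun _ => rfl
       right_inv := fun _ => rfl } :
      ((TM Q).obj ((rS β).obj (ModuleCat.of B B))).obj X ≃ₗ[Q] (rS β).obj ((eS β).obj X))

/-- The same, naturally in `X`. -/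
noncomputable def tensorNatIso : (TM Q).obj ((rS β).obj (ModuleCat.of B B)) ≅ eS β ⋙ rS β :=
  NatIso.ofComponents (tensorEquiv β) fun {X Y} f => by
    letI := β.toAlgebra
    refine ModuleCat.hom_ext (LinearMap.ext fun z => ?_)
    induction z using TensorProduct.induction_on with
    | zero => exact (map_zero _).trans (map_zero _).symm
    | add x y hx hy => exact (map_add _ x y).trans ((congrArg₂ (· + ·) hx hy).trans (map_add _ x y).symm)
    | tmul b x => rfl

theorem pv_ext_aux {S : Type u} [CommRing S] (χ : S →+* Q) (hβ : PCR β) (F : DRing.Cx Q) (b : ℤ)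
    [F.IsStrictlyLE b] (hF : ∀ i, Module.Flat Q (F.X i)) {m : ℤ} (h : PV χ m (DRing.toD F)) :
    PV (β.comp χ) m (DRing.toD ((eCx β).obj F)) := by
  have hN : PCn Q (b - m).toNat ((rS β).obj (ModuleCat.of B B)) := hβ _
  have h1 := pv_tC F b hF h _ _ hN m le_rfl (by omega)
  let c : tC F ((rS β).obj (ModuleCat.of B B)) ≅
      ((rS β).mapHomologicalComplex (ComplexShape.up ℤ)).obj ((eCx β).obj F) :=
    HomologicalComplex.Hom.isoOfComponents (fun i => (tensorNatIso β).app (F.X i))
      (fun i j _ => ((tensorNatIso β).hom.naturality (F.d i j)).symm)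
  exact pc_of_iso (restrictComp χ β _).symm (pv_iso
    (DerivedCategory.Q.mapIso c ≪≫ ((rS β).mapDerivedCategoryFactors.app _).symm) h1)

theorem flat_eS {A Q : Type u} [CommRing A] [CommRing Q] (φ : A →+* Q) (M : ModuleCat.{u} A)
    (hM : Module.Free A M) : Module.Flat Q ((eS φ).obj M) := by
  letI := φ.toAlgebra
  haveI : Module.Free Q ((eS φ).obj M) := inferInstanceAs (Module.Free Q (Q ⊗[A] M))
  exact Module.Flat.of_free

variable {R A : Type u} [CommRing R] [CommRing A] [Algebra R A] [Algebra A B] [Algebra R B] [IsScalarTower R A B]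

theorem rel_ext [Algebra.FiniteType R A] [Algebra.FiniteType A B]
    (hB : DerCA.IsRelPseudoCoherentModuleAll A B B) (F : DRing.Cx A) (b : ℤ) [F.IsStrictlyLE b]
    (hF : ∀ i, Module.Free A (F.X i)) {m : ℤ} (h : DerCA.IsRelPseudoCoherent R A m (DRing.toD F)) :
    DerCA.IsRelPseudoCoherent R B m (DRing.toD ((eCx (algebraMap A B)).obj F)) := by
  obtain ⟨n, α, hα⟩ := exists_presentation R A
  obtain ⟨k, β, hβ⟩ := exists_presentation A B
  rw [rel_tower_iff α hα β hβ]
  have h' := (rel_iff α hα m _).1 h
  letI := α.toRingHom.toAlgebra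
  let ι := algebraMap A (MvPolynomial (Fin k) A)
  let F' := (eCx ι).obj F
  haveI : F'.IsStrictlyLE b := by
    rw [CochainComplex.isStrictlyLE_iff]
    exact fun i hi => (eS ι).map_isZero (F.isZero_of_isStrictlyLE b i hi)
  have h1 : PV (MvPolynomial.map (σ := Fin k) α.toRingHom) m (DRing.toD F') :=
    pv_eCx (P := MvPolynomial (Fin n) R) (P' := MvPolynomial (Fin k) (MvPolynomial (Fin n) R))
      (A := A) (A' := MvPolynomial (Fin k) A) F h'
  have hflat : ∀ i, Module.Flat (MvPolynomial (Fin k) A) (F'.X i) := fun i => flat_eS ι (F.X i) (hF i)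
  have h2 := pv_ext_aux β.toRingHom (MvPolynomial.map (σ := Fin k) α.toRingHom)
    (pcr_of_relAll β hβ hB) F' b hflat h1
  have hcomp : (algebraMap A B) = β.toRingHom.comp ι := (RingHom.ext fun a => (β.commutes a).symm)
  let c : (eCx β.toRingHom).obj F' ≅ (eCx (algebraMap A B)).obj F :=
    HomologicalComplex.Hom.isoOfComponents
      (fun i => ((eqToIso (congrArg (fun φ => eS φ) hcomp)).trans
        (ModuleCat.extendScalarsComp ι β.toRingHom)).symm.app (F.X i))
      (fun i j _ => (((eqToIso (congrArg (fun φ => eS φ) hcomp)).trans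
        (ModuleCat.extendScalarsComp ι β.toRingHom)).symm.hom.naturality (F.d i j)).symm)
  exact pv_iso (DerivedCategory.Q.mapIso c) h2

theorem rel_bddAbove {m : ℤ} {K : Dual.D A} (h : DerCA.IsRelPseudoCoherent R A m K) : ∃ b : ℤ, K.IsLE b := by
  obtain ⟨n, α, -, h⟩ := h
  obtain ⟨b, hb⟩ := pc_bddAbove h
  exact ⟨b, (isLE_restrict_iff _ K b).1 hb⟩

theorem rel_congr {m : ℤ} {K L : Dual.D A} (e : K ≅ L) (h : DerCA.IsRelPseudoCoherent R A m K) :
    DerCA.IsRelPseudoCoherent R A m L := by
  obtain ⟨n, α, hα, h⟩ := h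
  exact ⟨n, α, hα, pv_iso e h⟩

end Groth.Agent.RelPC8
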