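import Groth.Agent.Lib.RelPC8.Extend
import Groth.Agent.Lib.RelPC8.BaseChange
import Groth.Agent.Lib.DBaseChange.Descent
import Mathlib.RingTheory.Localization.BaseChange

/-!
Relative pseudo-coherence and localization.
-/

set_option autoImplicit false
set_option backward.isDefEq.respectTransparency false
set_option backward.isDefEq.respectTransparency.types false

universe u

open CategoryTheory CategoryTheory.Limits

attribute [local instance] HasDerivedCategory.standard

namespace Groth.Agent.RelPC8

open DMod PCMor4

/-- A pseudo-coherent algebra is relatively pseudo-coherent as a module. -/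
theorem relAll_of_pch {A B : Type u} [CommRing A] [CommRing B] [Algebra A B] (h : PCH (algebraMap A B)) :
    DerCA.IsRelPseudoCoherentModuleAll A B B := by
  obtain ⟨n, φ, hs, hC, hpc⟩ := h
  let α : MvPolynomial (Fin n) A →ₐ[A] B := { φ with commutes' := fun a => RingHom.congr_fun hC a }
  intro m
  exact ⟨n, α, hs, (via_module_iff α m B).2 (pc_mono (by omega) (hpc (-m).toNat))⟩

theorem relAll_polynomial (R : Type u) [CommRing R] (n : ℕ) :
    DerCA.IsRelPseudoCoherentModuleAll R (MvPolynomial (Fin n) R) (MvPolynomial (Fin n) R) :=
  relAll_of_pch ⟨n, RingHom.id _, fun x => ⟨x, rfl⟩, RingHom.id_comp _,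
    pcr_of_bijective _ Function.bijective_id⟩

variable {R A : Type u} [CommRing R] [CommRing A] [Algebra R A]

/-- Localization preserves relative pseudo-coherence. -/
theorem rel_localization [Algebra.FiniteType R A] (g : A) (K : DRing.Cx A) {m : ℤ}
    (h : DerCA.IsRelPseudoCoherent R A m (DRing.toD K)) :
    DerCA.IsRelPseudoCoherent R (Localization.Away g) m
      (DRing.toD ((eCx (algebraMap A (Localization.Away g))).obj K)) := by
  haveI : Module.Flat A (Localization.Away g) := IsLocalization.flat _ (Submonoid.powers g)
  obtain ⟨b, hb⟩ := rel_bddAbove h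
  obtain ⟨F, hF, hfree, ⟨e⟩⟩ := exists_free_resolution (DRing.toD K) b
  haveI : ∀ i, Module.Free A (F.X i) := hfree
  haveI : F.IsKProjective := isKProjective b fun i => Module.Projective.of_free
  obtain ⟨f, hf⟩ := exists_map_eq e.hom
  haveI : QuasiIso f := (DerivedCategory.isIso_Q_map_iff_quasiIso (C := ModuleCat.{u} A) f).1
    (by rw [hf]; infer_instance)
  haveI := preservesHomology_eS (P := A) (P' := Localization.Away g)
  haveI : QuasiIso ((eCx (algebraMap A (Localization.Away g))).map f) :=
    inferInstanceAs (QuasiIso (((eS (algebraMap A (Localization.Away g))).mapHomologicalComplex (ComplexShape.up ℤ)).map f))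
  exact rel_congr (asIso (DerivedCategory.Q.map ((eCx (algebraMap A (Localization.Away g))).map f)))
    (rel_ext (relAll_of_pch (pch_away (L := Localization.Away g) g)) F b hfree (rel_congr e.symm h))

/-- Over the zero ring every complex is pseudo-coherent along any map. -/
theorem pv_of_subsingleton {P B : Type u} [CommRing P] [CommRing B] [Subsingleton B] (χ : P →+* B) (m : ℤ)
    (F : DRing.Cx B) : PV χ m (DRing.toD F) := by
  haveI : (DRing.toD F).IsLE (m - 1) := (isLE_iff _ _).2 fun i _ =>
    (subsingleton_HD_toD_iff F i).2 (Module.subsingleton B _)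
  haveI := (isLE_restrict_iff χ (DRing.toD F) (m - 1)).2 ‹_›
  exact pc_of_isLE (n := m - 1) (by omega)

/-- Pseudo-coherence along a ring map may be tested on a localization cover of the source. -/
theorem pv_of_span {P : Type u} [CommRing P] [Algebra P A] {s : ℕ} (g : Fin s → P)
    (hg : Ideal.span (Set.range g) = ⊤) (K : DRing.Cx A) (m : ℤ)
    (h : ∀ j, PV (Localization.awayMap (algebraMap P A) (g j)) m
      (DRing.toD ((eCx (algebraMap A (Localization.Away (algebraMap P A (g j))))).obj K))) :
    PV (algebraMap P A) m (DRing.toD K) := by
  refine pc_of_iso ((rS (algebraMap P A)).mapDerivedCategoryFactors.app K).symm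
    (DBaseChange.pc_descend (DBaseChange.jointlyFF_away g hg) _ m fun j => ?_)
  letI : Algebra (Localization.Away (g j)) (Localization.Away (algebraMap P A (g j))) :=
    (Localization.awayMap (algebraMap P A) (g j)).toAlgebra
  haveI : IsScalarTower P (Localization.Away (g j)) (Localization.Away (algebraMap P A (g j))) :=
    IsScalarTower.of_algebraMap_eq fun x => by
      show _ = Localization.awayMap (algebraMap P A) (g j) (algebraMap P (Localization.Away (g j)) x)
      rw [Localization.awayMap, IsLocalization.Away.map, IsLocalization.map_eq]
      exact IsScalarTower.algebraMap_apply P A _ x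
  haveI : IsLocalization (Algebra.algebraMapSubmonoid A (Submonoid.powers (g j)))
      (Localization.Away (algebraMap P A (g j))) := by
    rw [Algebra.algebraMapSubmonoid_powers]; exact Localization.isLocalization
  haveI : Algebra.IsPushout P A (Localization.Away (g j)) (Localization.Away (algebraMap P A (g j))) :=
    Algebra.isPushout_of_isLocalization (Submonoid.powers (g j)) (Localization.Away (g j)) A (Localization.Away (algebraMap P A (g j)))
  haveI : Algebra.IsPushout P (Localization.Away (g j)) A (Localization.Away (algebraMap P A (g j))) :=
    Algebra.IsPushout.symm inferInstance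
  exact pc_of_iso (DerivedCategory.Q.mapIso
      (sqIso P (Localization.Away (g j)) A (Localization.Away (algebraMap P A (g j))) K) ≪≫
    ((rS (algebraMap (Localization.Away (g j)) (Localization.Away (algebraMap P A (g j))))).mapDerivedCategoryFactors.app
      _).symm).symm (h j)

/-- Relative pseudo-coherence of a localization, read over a localized polynomial ring. -/
theorem pv_awayMap_of_rel {n : ℕ} [Algebra (MvPolynomial (Fin n) R) A]
    [IsScalarTower R (MvPolynomial (Fin n) R) A]
    (hs : Function.Surjective (algebraMap (MvPolynomial (Fin n) R) A)) (g : MvPolynomial (Fin n) R)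
    (m : ℤ) (L : Dual.D (Localization.Away (algebraMap (MvPolynomial (Fin n) R) A g)))
    (h : DerCA.IsRelPseudoCoherent R (Localization.Away (algebraMap (MvPolynomial (Fin n) R) A g)) m L) :
    PV (Localization.awayMap (algebraMap (MvPolynomial (Fin n) R) A) g) m L := by
  letI : Algebra (Localization.Away g) (Localization.Away (algebraMap (MvPolynomial (Fin n) R) A g)) :=
    (Localization.awayMap (algebraMap (MvPolynomial (Fin n) R) A) g).toAlgebra
  haveI : IsScalarTower R (Localization.Away g) (Localization.Away (algebraMap (MvPolynomial (Fin n) R) A g)) :=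
    IsScalarTower.of_algebraMap_eq fun r => by
      rw [IsScalarTower.algebraMap_apply R (MvPolynomial (Fin n) R) (Localization.Away g)]
      show _ = Localization.awayMap (algebraMap (MvPolynomial (Fin n) R) A) g
        (algebraMap (MvPolynomial (Fin n) R) (Localization.Away g) (algebraMap R (MvPolynomial (Fin n) R) r))
      rw [Localization.awayMap, IsLocalization.Away.map, IsLocalization.map_eq,
        ← IsScalarTower.algebraMap_apply R (MvPolynomial (Fin n) R) A, ← IsScalarTower.algebraMap_apply R A]
  have hsurj : Function.Surjective (Localization.awayMap (algebraMap (MvPolynomial (Fin n) R) A) g) :=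
    Localization.awayMap_surjective_iff.2 fun a => ⟨(hs a).choose, 0, by rw [(hs a).choose_spec, pow_zero, one_mul]⟩
  haveI : Algebra.FiniteType (Localization.Away g) (Localization.Away (algebraMap (MvPolynomial (Fin n) R) A g)) :=
    Algebra.FiniteType.of_surjective (Algebra.ofId _ _) hsurj
  have hP : DerCA.IsRelPseudoCoherentModuleAll R (Localization.Away g) (Localization.Away g) := fun l =>
    (rel_intermediate_iff (relAll_polynomial R n) l _).1 (relAll_of_pch (pch_away g) l)
  have h' := (rel_intermediate_iff hP m L).2 h
  let e := MvPolynomial.isEmptyAlgEquiv (Localization.Away g) (Fin 0)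
  have h'' := (rel_iff ((Algebra.ofId (Localization.Away g)
    (Localization.Away (algebraMap (MvPolynomial (Fin n) R) A g))).comp e.toAlgHom) (hsurj.comp e.surjective) m L).1 h'
  exact (pv_comp_iff (pcr_of_bijective e.toRingEquiv.toRingHom e.bijective) _ m L).1 h''

end Groth.Agent.RelPC8
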