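import Groth.Prelude.Def_DDual2
import Groth.Prelude.Def_DerCA
import Groth.Agent.Lib.DMod.PCHomology
import Groth.Agent.Lib.DMod.Resolve
import Groth.Agent.Lib.PCMor4.Hom
import Mathlib.Algebra.Homology.DerivedCategory.ExactFunctor

/-!
Pseudo-coherence of objects of the derived category is insensitive to restriction along a ring map
making the target pseudo-coherent as a module over the source.
-/

set_option autoImplicit false
set_option backward.isDefEq.respectTransparency false
set_option backward.isDefEq.respectTransparency.types false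

universe u

open CategoryTheory CategoryTheory.Limits CategoryTheory.Pretriangulated

attribute [local instance] HasDerivedCategory.standard

namespace Groth.Agent.RelPC8

open DMod PCMor4

variable {Q P : Type u} [CommRing Q] [CommRing P] (φ : Q →+* P)

/-- Restriction of scalars. -/
noncomputable abbrev rS : ModuleCat.{u} P ⥤ ModuleCat.{u} Q := ModuleCat.restrictScalars.{u} φ

/-- Restriction of a single object. -/
noncomputable def singleRes (n : ℤ) (M : ModuleCat.{u} P) :
    (DRing.restrictD φ).obj ((single n).obj M) ≅ (single n).obj ((rS φ).obj M) :=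
  ((rS φ).mapDerivedCategorySingleFunctor n).app M

/-- Cohomology commutes with restriction. -/
noncomputable def hdRes (K : Dual.D P) (i : ℤ) :
    (HH i).obj ((DRing.restrictD φ).obj K) ≅ (rS φ).obj ((HH i).obj K) :=
  have : (DerivedCategory.Q : DRing.Cx P ⥤ Dual.D P).EssSurj :=
    Localization.essSurj _ (HomologicalComplex.quasiIso (ModuleCat.{u} P) (ComplexShape.up ℤ))
  let L : DRing.Cx P := (DerivedCategory.Q : DRing.Cx P ⥤ Dual.D P).objPreimage K
  let e : DerivedCategory.Q.obj L ≅ K := (DerivedCategory.Q : DRing.Cx P ⥤ Dual.D P).objObjPreimageIso K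
  (HH i).mapIso ((DRing.restrictD φ).mapIso e.symm ≪≫ (rS φ).mapDerivedCategoryFactors.app L) ≪≫
    (DerivedCategory.homologyFunctorFactors (ModuleCat.{u} Q) i).app _ ≪≫
    (L.sc i).mapHomologyIso (rS φ) ≪≫
    (rS φ).mapIso (((DerivedCategory.homologyFunctorFactors (ModuleCat.{u} P) i).app L).symm ≪≫
      (HH i).mapIso e)

theorem isLE_restrict_iff (K : Dual.D P) (n : ℤ) : ((DRing.restrictD φ).obj K).IsLE n ↔ K.IsLE n := by
  rw [isLE_iff, isLE_iff]
  exact forall₂_congr fun i _ => (hdRes φ K i).toLinearEquiv.toEquiv.subsingleton_congr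

/-- Pseudo-coherence over `Q` of an object of `D(A)`, along `χ : Q → A`. -/
def PV {A : Type u} [CommRing A] (χ : Q →+* A) (m : ℤ) (K : Dual.D A) : Prop :=
  DRing.IsPseudoCoherent Q m ((DRing.restrictD χ).obj K)

variable {φ}

theorem pcModule_restrict_iff (hφ : PCR φ) (m : ℤ) (M : ModuleCat.{u} P) :
    DRing.IsPseudoCoherentModule Q m ((rS φ).obj M) ↔ DRing.IsPseudoCoherentModule P m M := by
  by_cases hm : 0 < m
  · exact iff_of_true (pcModule_of_pos hm _) (pcModule_of_pos hm _)
  · obtain ⟨k, rfl⟩ : ∃ k : ℕ, m = -(k : ℤ) := ⟨(-m).toNat, by omega⟩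
    letI : Module Q M := Module.compHom M φ
    exact (pcn_iff_of_pcr φ hφ k M fun r x => rfl).symm

theorem pv_free (hφ : PCR φ) {E : DRing.Cx P} {b : ℤ} (hb : DRing.VanishesAbove E b)
    (hE : DRing.TermwiseFiniteFree E) (m : ℤ) : PV φ m (DRing.toD E) := by
  refine pc_of_iso ((rS φ).mapDerivedCategoryFactors.app E).symm (pc_of_terms (b := b) (fun i hi => ?_) fun i _ => ?_)
  · exact (rS φ).map_isZero (hb i hi)
  · have := (hE i).1
    have := (hE i).2
    exact (pcModule_restrict_iff hφ _ (E.X i)).2 (pcModule_finiteFree _ _)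

theorem pv_single (hφ : PCR φ) (n m : ℤ) (M : ModuleCat.{u} P) (hM : DRing.IsPseudoCoherentModule P (m - n) M) :
    PV φ m ((single n).obj M) :=
  pc_of_iso (singleRes φ n M).symm ((pc_single_iff m n _).2 ((pcModule_restrict_iff hφ _ M).2 hM))

theorem pv_of_pc (hφ : PCR φ) {m : ℤ} {K : Dual.D P} (h : DRing.IsPseudoCoherent P m K) : PV φ m K := by
  obtain ⟨E, b, C, α, g, t, hE, hF, hT, hC⟩ := (pc_iff m K).1 h
  have := (isLE_restrict_iff φ C (m - 1)).2 hC
  have h3 : PV φ m C := pc_of_isLE (n := m - 1) (by omega)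
  exact pc_triangle₂ _ ((DRing.restrictD φ).map_distinguished _ hT)
    (pv_free hφ (fun i hi => hE i (Or.inr hi)) hF m) h3

theorem exists_hom_top {A : Type u} [CommRing A] (K : Dual.D A) (b : ℤ) [K.IsLE b] [Module.Finite A (Dual.HD A K b)] :
    ∃ (n : ℕ) (α : (single b).obj (ModuleCat.of A (Fin n → A)) ⟶ K), Epi ((HH b).map α) := by
  obtain ⟨L, hL, -, ⟨e⟩⟩ := exists_free_resolution K b
  have : Module.Finite A ((DerivedCategory.Q ⋙ HH b).obj L) :=
    Module.Finite.equiv ((HH b).mapIso e.symm).toLinearEquiv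
  have : Module.Finite A (L.homology b) := Module.Finite.equiv
    ((DerivedCategory.homologyFunctorFactors (ModuleCat.{u} A) b).app L).toLinearEquiv
  obtain ⟨n, p, hp⟩ := Module.Finite.exists_fin' A (L.homology b)
  obtain ⟨q, hq⟩ := Module.projective_lifting_property (L.homologyπ b).hom p (homologyπ_surjective L b)
  let g : ModuleCat.of A (Fin n → A) ⟶ L.X b := ModuleCat.ofHom q ≫ L.iCycles b
  let f : (HomologicalComplex.single (ModuleCat.{u} A) (ComplexShape.up ℤ) b).obj
      (ModuleCat.of A (Fin n → A)) ⟶ L :=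
    HomologicalComplex.mkHomFromSingle g fun j _ => by simp [g]
  have hf : Function.Surjective (HomologicalComplex.homologyMap f b) := by
    refine homologyMap_surjective f (i := b - 1) (k := b + 1) (by simp) (by simp) fun x hx => ?_
    obtain ⟨c, rfl⟩ := exists_cycle (K := L) (j := b) (k := b + 1) (by simp) x hx
    obtain ⟨v, hv⟩ := hp (L.homologyπ b c)
    obtain ⟨y, hy⟩ := (homologyπ_eq_zero_iff (i := b - 1) (by simp) (c - q v)).1 (by
      rw [map_sub, ← hv]
      exact sub_eq_zero.2 (LinearMap.congr_fun hq v).symm)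
    refine ⟨(HomologicalComplex.singleObjXSelf (ComplexShape.up ℤ) b (ModuleCat.of A (Fin n → A))).inv v, y, ?_, ?_⟩
    · rw [HomologicalComplex.single_obj_d]; rfl
    · rw [HomologicalComplex.mkHomFromSingle_f, hy, map_sub, ModuleCat.comp_apply, ← ModuleCat.comp_apply _ (HomologicalComplex.singleObjXSelf _ _ _).hom,
        Iso.inv_hom_id]
      exact add_sub_cancel _ _
  refine ⟨n, ((DerivedCategory.singleFunctorIsoCompQ (ModuleCat.{u} A) b).app _).hom ≫
    DerivedCategory.Q.map f ≫ e.hom, ?_⟩
  have h1 : Epi ((HH b).map (DerivedCategory.Q.map f)) := by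
    have : Epi ((HomologicalComplex.homologyFunctor (ModuleCat.{u} A) (ComplexShape.up ℤ) b).map f) :=
      (ModuleCat.epi_iff_surjective _).2 hf
    exact ((MorphismProperty.epimorphisms _).arrow_mk_iso_iff
      (((Functor.mapArrowFunctor _ _).mapIso
        (DerivedCategory.homologyFunctorFactors (ModuleCat.{u} A) b)).app (Arrow.mk f))).2 this
  rw [Functor.map_comp, Functor.map_comp]
  exact epi_comp' inferInstance (epi_comp' h1 inferInstance)

theorem pc_of_pv (hφ : PCR φ) {m : ℤ} {K : Dual.D P} (h : PV φ m K) : DRing.IsPseudoCoherent P m K := by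
  obtain ⟨b, hb⟩ := pc_bddAbove h
  suffices H : ∀ (k : ℕ) (b : ℤ) (K : Dual.D P), K.IsLE b → b < m + k → PV φ m K →
      DRing.IsPseudoCoherent P m K from
    H (b + 1 - m).toNat b K ((isLE_restrict_iff φ K b).1 hb) (by omega) h
  intro k
  induction k with
  | zero => exact fun b K hK hb _ => have := hK; pc_of_isLE (n := b) (by simpa using hb)
  | succ k ih =>
    intro b K hK hb h
    by_cases hb' : b < m + k
    · exact ih b K hK hb' h
    have := hK
    haveI : ((DRing.restrictD φ).obj K).IsLE b := (isLE_restrict_iff φ K b).2 hK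
    haveI : Module.Finite P (Dual.HD P K b) := by
      have hf : Module.Finite Q (Dual.HD Q ((DRing.restrictD φ).obj K) b) :=
        finite_top (pc_mono (by omega) h)
      have hfin : Module.Finite Q ((rS φ).obj ((HH b).obj K)) := Module.Finite.equiv (hdRes φ K b).toLinearEquiv
      letI := φ.toAlgebra
      letI : Module Q ((HH b).obj K) := Module.compHom _ φ
      haveI : IsScalarTower Q P ((HH b).obj K) := ⟨fun r s x => by
        rw [Algebra.smul_def, mul_smul]; rfl⟩
      haveI : Module.Finite Q ((HH b).obj K) := hfin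
      exact Module.Finite.of_restrictScalars_finite Q P ((HH b).obj K)
    obtain ⟨n, α, hα⟩ := exists_hom_top K b
    obtain ⟨C, g, t, hT⟩ := distinguished_cocone_triangle α
    have hC : C.IsLE (b - 1) := by
      refine (cone_isLE_iff _ hT b).2 ⟨fun i hi => ?_, hα⟩
      have h1 := DerivedCategory.isZero_of_isLE ((single b).obj (ModuleCat.of P (Fin n → P))) b i hi
      have h2 := DerivedCategory.isZero_of_isLE K b i hi
      exact ⟨0, h1.eq_of_src _ _, h2.eq_of_src _ _⟩
    have hC' : DRing.IsPseudoCoherent P m C :=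
      ih (b - 1) C hC (by omega) (pc_triangle₃ _ ((DRing.restrictD φ).map_distinguished _ hT)
        (show PV φ (m + 1) ((single b).obj (ModuleCat.of P (Fin n → P))) from
          pv_single hφ b (m + 1) _ (pcModule_finiteFree _ _)) h)
    exact pc_triangle₂ _ hT ((pc_single_iff m b _).2 (pcModule_finiteFree _ _)) hC'

/-- Pseudo-coherence may be tested after restriction along a pseudo-coherent ring map. -/
theorem pc_restrict_iff (hφ : PCR φ) (m : ℤ) (K : Dual.D P) :
    DRing.IsPseudoCoherent Q m ((DRing.restrictD φ).obj K) ↔ DRing.IsPseudoCoherent P m K :=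
  ⟨pc_of_pv hφ, pv_of_pc hφ⟩

end Groth.Agent.RelPC8
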