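import Groth.Agent.Lib.RelPC8.BaseChange

/-!
Tensoring a relatively pseudo-coherent complex of flat modules with a pseudo-coherent module.
-/

set_option autoImplicit false
set_option backward.isDefEq.respectTransparency false
set_option backward.isDefEq.respectTransparency.types false

universe u

open CategoryTheory CategoryTheory.Limits CategoryTheory.Pretriangulated MonoidalCategory

attribute [local instance] HasDerivedCategory.standard

namespace Groth.Agent.RelPC8

open DMod PCMor4 KFlat KFlat.Module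

variable {S Q : Type u} [CommRing S] [CommRing Q] (χ : S →+* Q)

/-- `N ↦ N ⊗ F` termwise. -/
noncomputable abbrev tC (F : DRing.Cx Q) (N : ModuleCat.{u} Q) : DRing.Cx Q :=
  (((TM Q).obj N).mapHomologicalComplex (ComplexShape.up ℤ)).obj F

/-- Functoriality in `N`. -/
noncomputable def tCFun (F : DRing.Cx Q) : ModuleCat.{u} Q ⥤ DRing.Cx Q where
  obj N := tC F N
  map f := (NatTrans.mapHomologicalComplex ((TM Q).map f) (ComplexShape.up ℤ)).app F
  map_id N := by
    ext i : 1
    exact congrArg (fun t => t.app (F.X i)) ((TM Q).map_id N)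
  map_comp f g := by
    ext i : 1
    exact congrArg (fun t => t.app (F.X i)) ((TM Q).map_comp f g)

instance additive_tCFun (F : DRing.Cx Q) : (tCFun F).Additive where
  map_add {N N' f g} := by
    ext i : 1
    exact congrArg (fun t => t.app (F.X i)) ((TM Q).map_add (f := f) (g := g))

theorem shortExact_tC (F : DRing.Cx Q) (hF : ∀ i, Module.Flat Q (F.X i)) {X : ShortComplex (ModuleCat.{u} Q)}
    (hX : X.ShortExact) : (X.map (tCFun F)).ShortExact := by
  refine HomologicalComplex.shortExact_of_degreewise_shortExact _ fun i => ?_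
  have h : KFlat.IsFlat (TM Q) (F.X i) := (isFlat_iff _).2 (hF i)
  have := h.preservesHomology_right
  exact hX.map_of_exact ((TM Q).flip.obj (F.X i))

variable {χ}

theorem pv_triangle₃_of_shortExact {X : ShortComplex (DRing.Cx Q)} (hX : X.ShortExact) {m : ℤ}
    (h₁ : PV χ (m + 1) (DRing.toD X.X₁)) (h₂ : PV χ m (DRing.toD X.X₂)) : PV χ m (DRing.toD X.X₃) :=
  pc_triangle₃ _ ((DRing.restrictD χ).map_distinguished _ (DerivedCategory.triangleOfSES_distinguished hX)) h₁ h₂

theorem pv_iso {m : ℤ} {K L : Dual.D Q} (e : K ≅ L) (h : PV χ m K) : PV χ m L :=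
  pc_of_iso ((DRing.restrictD χ).mapIso e) h

theorem pv_biprod {m : ℤ} {K L : Dual.D Q} [HasBinaryBiproduct K L]
    (h₁ : PV χ m K) (h₂ : PV χ m L) : PV χ m (K ⊞ L) :=
  haveI : PreservesBinaryBiproducts (DRing.restrictD χ) := preservesBinaryBiproducts_of_preservesBiproducts _
  pc_of_iso ((DRing.restrictD χ).mapBiprod K L).symm (DMod.pc_biprod h₁ h₂)

theorem pv_tC_free (F : DRing.Cx Q) {m : ℤ} (hF : PV χ m (DRing.toD F)) :
    ∀ r : ℕ, PV χ m (DRing.toD (tC F (ModuleCat.of Q (Fin r → Q)))) := by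
  let G : ModuleCat.{u} Q ⥤ Dual.D Q := tCFun F ⋙ DerivedCategory.Q
  haveI : G.Additive := inferInstance
  haveI := preservesBinaryBiproducts_of_preservesBiproducts G
  have unit : PV χ m (G.obj (ModuleCat.of Q Q)) :=
    pv_iso (DerivedCategory.Q.mapIso
      ((NatIso.mapHomologicalComplex (leftUnitorNatIso (ModuleCat.{u} Q)) (ComplexShape.up ℤ)).app F ≪≫
        (Functor.mapHomologicalComplexIdIso (ModuleCat.{u} Q) (ComplexShape.up ℤ)).app F)).symm hF
  intro r
  induction r with
  | zero =>
    have h0 : IsZero (G.obj (ModuleCat.of Q (Fin 0 → Q))) :=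
      G.map_isZero ((isZero_iff_subsingleton _).2 inferInstance)
    have := (isLE_iff (G.obj (ModuleCat.of Q (Fin 0 → Q))) (m - 1)).2 fun i _ =>
      ModuleCat.subsingleton_of_isZero ((HH i).map_isZero h0)
    have h1 := (isLE_restrict_iff χ (G.obj (ModuleCat.of Q (Fin 0 → Q))) (m - 1)).2 this
    exact @pc_of_isLE _ _ _ (m - 1) (by omega) _ h1
  | succ n ih =>
    let s : ModuleCat.of Q (Fin (n + 1) → Q) ≅ ModuleCat.of Q Q ⊞ ModuleCat.of Q (Fin n → Q) :=
      (Fin.consLinearEquiv Q fun _ : Fin (n + 1) => Q).symm.toModuleIso ≪≫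
        (ModuleCat.biprodIsoProd (ModuleCat.of Q Q) (ModuleCat.of Q (Fin n → Q))).symm
    exact pv_iso ((G.mapBiprod _ _).symm ≪≫ G.mapIso s.symm) (pv_biprod unit ih)

/-- Tensoring with a pseudo-coherent module. -/
theorem pv_tC (F : DRing.Cx Q) (b : ℤ) [F.IsStrictlyLE b] (hF : ∀ i, Module.Flat Q (F.X i)) {m : ℤ}
    (h : PV χ m (DRing.toD F)) :
    ∀ (k : ℕ) (N : ModuleCat.{u} Q), PCn Q k N → ∀ m', m ≤ m' → b - k ≤ m' →
      PV χ m' (DRing.toD (tC F N)) := by
  have hle : ∀ N, (DRing.toD (tC F N)).IsLE b := fun N => by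
    haveI : (tC F N).IsStrictlyLE b := by
      rw [CochainComplex.isStrictlyLE_iff]
      exact fun i hi => ((TM Q).obj N).map_isZero (F.isZero_of_isStrictlyLE b i hi)
    exact (inferInstance : (DerivedCategory.Q.obj (tC F N)).IsLE b)
  intro k
  induction k with
  | zero =>
    intro N hN m' hm hb
    haveI := finite_of_pcn hN
    obtain ⟨r, p, hp⟩ := Module.Finite.exists_fin' Q N
    refine pv_triangle₃_of_shortExact (shortExact_tC F hF (LinearMap.shortExact_shortComplexKer hp)) ?_
      (pc_mono hm (pv_tC_free F h r))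
    have h1 := (isLE_restrict_iff χ _ b).2 (hle (ModuleCat.of Q (LinearMap.ker p)))
    exact @pc_of_isLE _ _ _ b (by simp at hb; omega) _ h1
  | succ k ih =>
    intro N hN m' hm hb
    haveI := finite_of_pcn hN
    obtain ⟨r, p, hp⟩ := Module.Finite.exists_fin' Q N
    exact pv_triangle₃_of_shortExact (shortExact_tC F hF (LinearMap.shortExact_shortComplexKer hp))
      (ih (ModuleCat.of Q (LinearMap.ker p)) ((pcn_succ_iff p hp fun m => pcn_finiteProjective m _).1 hN) (m' + 1)
        (by omega) (by push_cast at hb; omega))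
      (pc_mono hm (pv_tC_free F h r))

end Groth.Agent.RelPC8
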