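import Groth.Agent.Lib.FlatSyz.TorDim
import Groth.Agent.Lib.PCMor4.Tor
import Mathlib.RingTheory.IsTensorProduct

/-!
Modules acyclic for a base change, seen through a fixed flat resolution, and exactness of the base change
of bounded above acyclic complexes of such modules.
-/

set_option autoImplicit false

universe u

open CategoryTheory CategoryTheory.Limits TensorProduct

namespace Groth.Agent.RelPC8

variable {P : Type u} [CommRing P]

/-- One-sided dimension shift: only one middle term needs to be flat. -/
theorem rTensor_injective_of_lTensor_injective {K C M L F N : Type u} [AddCommGroup K] [Module P K]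
    [AddCommGroup C] [Module P C] [AddCommGroup M] [Module P M] [AddCommGroup L] [Module P L]
    [AddCommGroup F] [Module P F] [AddCommGroup N] [Module P N] [Module.Flat P F]
    (i : K →ₗ[P] C) (hi : Function.Injective i) (p : C →ₗ[P] M) (hip : Function.Exact i p)
    (hp : Function.Surjective p) (j : L →ₗ[P] F) (q : F →ₗ[P] N)
    (hjq : Function.Exact j q) (hq : Function.Surjective q) (h : Function.Injective (j.lTensor M)) :
    Function.Injective (i.rTensor N) := by
  have hiF := Module.Flat.rTensor_preserves_injective_linearMap (M := F) i hi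
  rw [injective_iff_map_eq_zero]
  intro z hz
  obtain ⟨w, rfl⟩ := LinearMap.lTensor_surjective K hq z
  have h1 : q.lTensor C (i.rTensor F w) = 0 := by
    rw [← hz, ← LinearMap.comp_apply, LinearMap.lTensor_comp_rTensor, ← LinearMap.rTensor_comp_lTensor,
      LinearMap.comp_apply]
  obtain ⟨u, hu⟩ := (lTensor_exact C hjq hq _).1 h1
  have h2 : p.rTensor L u = 0 := by
    apply h
    rw [map_zero, ← LinearMap.comp_apply, LinearMap.lTensor_comp_rTensor,
      ← LinearMap.rTensor_comp_lTensor, LinearMap.comp_apply, hu, ← LinearMap.comp_apply,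
      ← LinearMap.rTensor_comp, hip.linearMap_comp_eq_zero, LinearMap.rTensor_zero, LinearMap.zero_apply]
  obtain ⟨v, rfl⟩ := (rTensor_exact L hip hp _).1 h2
  have h3 : i.rTensor F (w - j.lTensor K v) = 0 := by
    rw [map_sub, ← hu, ← LinearMap.comp_apply (i.rTensor _), LinearMap.rTensor_comp_lTensor,
      ← LinearMap.lTensor_comp_rTensor, LinearMap.comp_apply, sub_self]
  have h4 := hiF (h3.trans (map_zero _).symm)
  rw [sub_eq_zero] at h4
  rw [h4, ← LinearMap.comp_apply, ← LinearMap.lTensor_comp, hjq.linearMap_comp_eq_zero,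
    LinearMap.lTensor_zero, LinearMap.zero_apply]

/-- A flat resolution of `N`, cut into short exact sequences. -/
structure FlatCut (P : Type u) [CommRing P] (N : Type u) [AddCommGroup N] [Module P N] : Type (u + 1) where
  /-- the flat terms -/
  F : ℕ → ModuleCat.{u} P
  /-- the syzygies -/
  L : ℕ → ModuleCat.{u} P
  flat : ∀ i, Module.Flat P (F i)
  /-- inclusion of a syzygy -/
  j : ∀ i, L i →ₗ[P] F i
  /-- projection onto a syzygy -/
  e : ∀ i, F (i + 1) →ₗ[P] L i
  exact_e : ∀ i, Function.Exact (j (i + 1)) (e i)
  surj_e : ∀ i, Function.Surjective (e i)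
  j_inj : ∀ i, Function.Injective (j i)
  /-- the augmentation -/
  q : F 0 →ₗ[P] N
  exact_q : Function.Exact (j 0) q
  surj_q : Function.Surjective q

namespace FlatCut

variable {N : Type u} [AddCommGroup N] [Module P N] (S : FlatCut P N)

/-- Vanishing of the higher Tors against `N`. -/
def Acyc (X : Type u) [AddCommGroup X] [Module P X] : Prop :=
  ∀ i, Function.Injective ((S.j i).lTensor X)

theorem acyc_of_flat (X : Type u) [AddCommGroup X] [Module P X] [Module.Flat P X] : S.Acyc X :=
  fun i => Module.Flat.lTensor_preserves_injective_linearMap _ (S.j_inj i)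

theorem acyc_of_subsingleton (X : Type u) [AddCommGroup X] [Module P X] [Subsingleton X] : S.Acyc X :=
  fun _ a b _ => Subsingleton.elim a b

theorem acyc_equiv {X Y : Type u} [AddCommGroup X] [Module P X] [AddCommGroup Y] [Module P Y]
    (e : X ≃ₗ[P] Y) (h : S.Acyc X) : S.Acyc Y := fun i => by
  rw [injective_iff_map_eq_zero]
  intro z hz
  have h1 : (S.j i).lTensor X (e.symm.toLinearMap.rTensor (S.L i) z) = 0 := by
    rw [← LinearMap.comp_apply, LinearMap.lTensor_comp_rTensor, ← LinearMap.rTensor_comp_lTensor,
      LinearMap.comp_apply, hz, map_zero]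
  have h2 := h i (h1.trans (map_zero _).symm)
  exact (LinearEquiv.rTensor (S.L i) e.symm).injective (h2.trans (map_zero _).symm)

theorem acyc_prod {X Y : Type u} [AddCommGroup X] [Module P X] [AddCommGroup Y] [Module P Y]
    (hX : S.Acyc X) (hY : S.Acyc Y) : S.Acyc (X × Y) := fun i => by
  rw [injective_iff_map_eq_zero]
  intro z hz
  have h1 : ∀ {W : Type u} [AddCommGroup W] [Module P W] (f : X × Y →ₗ[P] W),
      (S.j i).lTensor W (f.rTensor (S.L i) z) = 0 := fun f => by
    rw [← LinearMap.comp_apply, LinearMap.lTensor_comp_rTensor, ← LinearMap.rTensor_comp_lTensor,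
      LinearMap.comp_apply, hz, map_zero]
  have ha := hX i ((h1 (LinearMap.fst P X Y)).trans (map_zero _).symm)
  have hb := hY i ((h1 (LinearMap.snd P X Y)).trans (map_zero _).symm)
  have hid : (LinearMap.inl P X Y).comp (LinearMap.fst P X Y) + (LinearMap.inr P X Y).comp (LinearMap.snd P X Y) =
      LinearMap.id := by ext <;> simp
  have h2 := congrArg (fun f : X × Y →ₗ[P] X × Y => f.rTensor (S.L i) z) hid
  simp only [LinearMap.rTensor_add, LinearMap.add_apply, LinearMap.rTensor_comp, LinearMap.comp_apply, ha, hb,
    map_zero, add_zero, LinearMap.rTensor_id, LinearMap.id_coe, id_eq] at h2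
  exact h2.symm

/-- Acyclic modules are closed under kernels of surjections. -/
theorem acyc_ker {K C M : Type u} [AddCommGroup K] [Module P K] [AddCommGroup C] [Module P C]
    [AddCommGroup M] [Module P M] (i : K →ₗ[P] C) (hi : Function.Injective i) (p : C →ₗ[P] M)
    (hip : Function.Exact i p) (hp : Function.Surjective p) (hC : S.Acyc C) (hM : S.Acyc M) :
    S.Acyc K := fun k => by
  haveI := S.flat (k + 1)
  have h1 : Function.Injective (i.rTensor (S.L k)) :=
    rTensor_injective_of_lTensor_injective i hi p hip hp (S.j (k + 1)) (S.e k) (S.exact_e k) (S.surj_e k)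
      (hM (k + 1))
  rw [injective_iff_map_eq_zero]
  intro z hz
  refine h1 ((hC k ?_).trans (map_zero _).symm)
  rw [map_zero, ← LinearMap.comp_apply, LinearMap.lTensor_comp_rTensor, ← LinearMap.rTensor_comp_lTensor,
    LinearMap.comp_apply, hz, map_zero]

theorem lTensor_injective_of_acyc {K C M : Type u} [AddCommGroup K] [Module P K] [AddCommGroup C] [Module P C]
    [AddCommGroup M] [Module P M] (i : K →ₗ[P] C) (hi : Function.Injective i) (p : C →ₗ[P] M)
    (hip : Function.Exact i p) (hp : Function.Surjective p) (hM : S.Acyc M) :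
    Function.Injective (i.lTensor N) := by
  haveI := S.flat 0
  exact (LinearMap.lTensor_inj_iff_rTensor_inj _ _).2
    (rTensor_injective_of_lTensor_injective i hi p hip hp (S.j 0) S.q S.exact_q S.surj_q (hM 0))

/-- A bounded above exact complex of acyclic modules stays exact. -/
theorem exact_lTensor (X : ℤ → ModuleCat.{u} P) (d : ∀ i, X i →ₗ[P] X (i + 1))
    (hd : ∀ i, Function.Exact (d i) (d (i + 1))) (b : ℤ) (hb : ∀ i, b < i → Subsingleton (X i))
    (hX : ∀ i, S.Acyc (X i)) (i : ℤ) : Function.Exact ((d i).lTensor N) ((d (i + 1)).lTensor N) := by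
  have hrange : ∀ k, S.Acyc (LinearMap.range (d k)) := by
    have key : ∀ (n : ℕ) (k : ℤ), b ≤ k + n → S.Acyc (LinearMap.range (d k)) := by
      intro n
      induction n with
      | zero =>
        intro k hk
        have := hb (k + 1) (by omega)
        exact S.acyc_of_subsingleton _
      | succ n ih =>
        intro k hk
        have h := ih (k + 1) (by omega)
        refine S.acyc_ker (LinearMap.range (d k)).subtype (Submodule.injective_subtype _) (d (k + 1)).rangeRestrict
          (fun x => ⟨fun hx => ?_, ?_⟩) (LinearMap.surjective_rangeRestrict _) (hX _) h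
        · exact ⟨⟨x, (hd k x).1 (congrArg Subtype.val hx)⟩, rfl⟩
        · rintro ⟨⟨_, y, rfl⟩, rfl⟩
          exact Subtype.ext ((hd k _).2 ⟨y, rfl⟩)
    intro k
    exact key (b - k).toNat k (by omega)
  have hex : Function.Exact (d i) (d (i + 1)).rangeRestrict := fun x =>
    ⟨fun hx => (hd i x).1 (congrArg Subtype.val hx), fun hx => Subtype.ext ((hd i x).2 hx)⟩
  have hinj : Function.Injective ((LinearMap.range (d (i + 1))).subtype.lTensor N) :=
    S.lTensor_injective_of_acyc _ (Submodule.injective_subtype _) (d (i + 1 + 1)).rangeRestrict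
      (fun x => ⟨fun hx => ⟨⟨x, (hd (i + 1) x).1 (congrArg Subtype.val hx)⟩, rfl⟩,
        fun ⟨⟨_, y, hy⟩, hx⟩ => by subst hx; subst hy; exact Subtype.ext ((hd (i + 1) _).2 ⟨y, rfl⟩)⟩)
      (LinearMap.surjective_rangeRestrict _) (hrange (i + 1 + 1))
  intro x
  refine ⟨fun hx => (lTensor_exact N hex (LinearMap.surjective_rangeRestrict _) x).1 (hinj ?_), ?_⟩
  · rw [map_zero, ← LinearMap.comp_apply, ← LinearMap.lTensor_comp]
    exact hx
  · rintro ⟨y, rfl⟩
    rw [← LinearMap.comp_apply, ← LinearMap.lTensor_comp, (hd i).linearMap_comp_eq_zero, LinearMap.lTensor_zero,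
      LinearMap.zero_apply]

end FlatCut

section Make

variable {R R' : Type u} [CommRing R] [CommRing R'] [Algebra R R'] [Algebra R P] [Module.Flat R P]
variable {P' : Type u} [CommRing P'] [Algebra P P'] [Algebra R P'] [IsScalarTower R P P']
  [Algebra R' P'] [IsScalarTower R R' P'] [Algebra.IsPushout R P R' P']

open FlatSyz

/-- The base change of a projective resolution of `R'` along a flat `R → P` resolves `P'`. -/
noncomputable def baseChangeCut (Pr : ProjectiveResolution (ModuleCat.of R R')) : FlatCut P P' where
  F i := ModuleCat.of P (P ⊗[R] Pr.complex.X i)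
  L i := ModuleCat.of P (P ⊗[R] LinearMap.range (dLin Pr i))
  flat i := haveI := flat_X Pr i; inferInstanceAs (Module.Flat P (P ⊗[R] Pr.complex.X i))
  j i := ((LinearMap.range (dLin Pr i)).subtype).baseChange P
  e i := ((dLin Pr i).rangeRestrict).baseChange P
  exact_e i := by
    show Function.Exact ((LinearMap.range (dLin Pr (i + 1))).subtype.lTensor P)
      ((dLin Pr i).rangeRestrict.lTensor P)
    refine lTensor_exact P ?_ (LinearMap.surjective_rangeRestrict _)
    exact fun x => ⟨fun hx => ⟨⟨x, (dLin_exact Pr i x).1 (congrArg Subtype.val hx)⟩, rfl⟩,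
      fun ⟨y, hy⟩ => Subtype.ext ((dLin_exact Pr i x).2 (hy ▸ y.2))⟩
  surj_e i := LinearMap.lTensor_surjective P (LinearMap.surjective_rangeRestrict _)
  j_inj i := Module.Flat.lTensor_preserves_injective_linearMap _ (Submodule.injective_subtype _)
  q := (Algebra.IsPushout.equiv R P R' P').toLinearEquiv.toLinearMap ∘ₗ ((Pr.π.f 0).hom : Pr.complex.X 0 →ₗ[R] R').baseChange P
  exact_q := by
    refine fun x => Iff.trans ?_ (lTensor_exact P (f := (LinearMap.range (dLin Pr 0)).subtype)
      (g := ((Pr.π.f 0).hom : Pr.complex.X 0 →ₗ[R] R')) ?_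
      ((ModuleCat.epi_iff_surjective (Pr.π.f 0)).1 inferInstance) x)
    · exact (Algebra.IsPushout.equiv R P R' P').toLinearEquiv.map_eq_zero_iff
    · exact fun x => ⟨fun hx => ⟨⟨x, (ShortComplex.moduleCat_exact_iff _).1 Pr.exact₀ x hx⟩, rfl⟩,
        fun ⟨⟨_, z, hz⟩, hy⟩ => by
          subst hy; subst hz
          exact LinearMap.congr_fun (congrArg ModuleCat.Hom.hom Pr.complex_d_comp_π_f_zero) z⟩
  surj_q := (Algebra.IsPushout.equiv R P R' P').toLinearEquiv.surjective.comp
    (LinearMap.lTensor_surjective P ((ModuleCat.epi_iff_surjective (Pr.π.f 0)).1 inferInstance))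

/-- Free modules over a Tor-independent algebra are acyclic. -/
theorem acyc_baseChangeCut (Pr : ProjectiveResolution (ModuleCat.of R R'))
    {A : Type u} [CommRing A] [Algebra R A] [Algebra P A] [IsScalarTower R P A]
    (htor : ∀ p : ℕ, IsZero (((Tor (ModuleCat.{u} R) (p + 1)).obj (ModuleCat.of R A)).obj (ModuleCat.of R R')))
    (X : Type u) [AddCommGroup X] [Module A X] [Module.Flat A X] [Module P X] [IsScalarTower P A X] :
    (baseChangeCut (P := P) (P' := P') Pr).Acyc X := by
  letI : Module R X := Module.compHom X (algebraMap R A)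
  haveI : IsScalarTower R A X := ⟨fun r a x => by rw [Algebra.smul_def, mul_smul]; rfl⟩
  haveI : IsScalarTower R P X := ⟨fun r p x => by
    rw [← algebraMap_smul A (r • p) x, ← algebraMap_smul A p x, ← algebraMap_smul A r (algebraMap P A p • x),
      smul_smul, Algebra.smul_def r p, map_mul, ← IsScalarTower.algebraMap_apply]⟩
  intro i
  let ι := (LinearMap.range (dLin Pr i)).subtype
  have hA : Function.Injective (ι.baseChange A) := (isZero_tor_succ_iff Pr i).1 (htor i)
  have h1 : Function.Injective ((ι.baseChange A).lTensor X) :=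
    Module.Flat.lTensor_preserves_injective_linearMap _ hA
  have h2 : Function.Injective (ι.lTensor X) := fun a b hab => by
    apply (AlgebraTensorModule.cancelBaseChange R A A X _).symm.injective
    apply h1
    apply (AlgebraTensorModule.cancelBaseChange R A A X _).injective
    rw [PCMor4.cancelBaseChange_natural, PCMor4.cancelBaseChange_natural, LinearEquiv.apply_symm_apply,
      LinearEquiv.apply_symm_apply, hab]
  intro a b hab
  apply (AlgebraTensorModule.cancelBaseChange R P P X _).injective
  apply h2
  exact (PCMor4.cancelBaseChange_natural X ι a).symm.trans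
    ((congrArg (AlgebraTensorModule.cancelBaseChange R P P X _) hab).trans (PCMor4.cancelBaseChange_natural X ι b))

end Make

end Groth.Agent.RelPC8
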