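import Groth.Agent.Lib.RelPC8.TorAcyclic
import Groth.Agent.Lib.RelPC8.BaseChange
import Groth.Agent.Lib.FlatCx.Cochain
import Groth.Agent.Lib.DQC.Pull

/-!
Pseudo-coherence and a Tor-independent base change.
-/

set_option autoImplicit false
set_option backward.isDefEq.respectTransparency false
set_option backward.isDefEq.respectTransparency.types false

universe u

open CategoryTheory CategoryTheory.Limits CategoryTheory.Pretriangulated TensorProduct

attribute [local instance] HasDerivedCategory.standard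

namespace Groth.Agent.RelPC8

open DMod PCMor4 FlatCxLib

set_option maxHeartbeats 1000000 in
theorem quasiIso_eCx_of_acyc {P P' : Type u} [CommRing P] [CommRing P'] (φ : P →+* P') [I : Algebra P P']
    (hI : I = φ.toAlgebra) (S : FlatCut P P') {C D : DRing.Cx P} (f : C ⟶ D) [QuasiIso f] (b b' : ℤ)
    [C.IsStrictlyLE b] [D.IsStrictlyLE b'] (hC : ∀ i, S.Acyc (C.X i)) (hD : ∀ i, S.Acyc (D.X i)) :
    QuasiIso ((eCx φ).map f) := by
  subst hI
  letI := φ.toAlgebra
  let E := CochainComplex.mappingCone f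
  haveI := cone_isStrictlyLE f b b' (max b b') (by omega) (le_max_right _ _)
  have hac : ∀ p, E.ExactAt p := (quasiIso_iff_acyclic f).1 inferInstance
  rw [quasiIso_iff_acyclic]
  intro p
  refine HomologicalComplex.ExactAt.of_iso ?_ (CochainComplex.mappingCone.mapHomologicalComplexIso f (eS φ))
  obtain ⟨i, rfl⟩ : ∃ i, p = i + 1 := ⟨p - 1, by omega⟩
  rw [exactAt_iff_subsingleton, subsingleton_homology_iff _ (show (ComplexShape.up ℤ).prev (i + 1) = i by simp)
    (show (ComplexShape.up ℤ).next (i + 1) = i + 1 + 1 by simp)]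
  intro x hx
  have hd : ∀ k, Function.Exact (cd E k (k + 1)) (cd E (k + 1) (k + 1 + 1)) := fun k y => by
    refine ⟨(subsingleton_homology_iff E (show (ComplexShape.up ℤ).prev (k + 1) = k by simp)
      (show (ComplexShape.up ℤ).next (k + 1) = k + 1 + 1 by simp)).1
      ((exactAt_iff_subsingleton E (k + 1)).1 (hac (k + 1))) y, ?_⟩
    rintro ⟨z, rfl⟩
    exact cd_cd E k (k + 1) (k + 1 + 1) z
  have hX : ∀ k, S.Acyc (E.X k) := fun k =>
    S.acyc_equiv (coneXEquiv f k).symm (S.acyc_prod (hC (k + 1)) (hD k))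
  have h := S.exact_lTensor (fun k => E.X k) (fun k => cd E k (k + 1)) hd (max b b')
    (fun k hk => ModuleCat.subsingleton_of_isZero (E.isZero_of_isStrictlyLE (max b b') k hk)) hX i x
  exact h.1 hx

variable {P P' : Type u} [CommRing P] [CommRing P'] [Algebra P P']


/-- Pseudo-coherence passes to an adapted extension of scalars. -/
theorem pc_eCx_of_acyc (S : FlatCut P P') (X : DRing.Cx P) (b : ℤ) [X.IsStrictlyLE b]
    (hX : ∀ i, S.Acyc (X.X i)) {m : ℤ} (h : DRing.IsPseudoCoherent P m (DRing.toD X)) :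
    DRing.IsPseudoCoherent P' m (DRing.toD ((eCx (algebraMap P P')).obj X)) := by
  haveI : (DRing.toD X).IsLE b := (isLE_iff _ b).2 fun i hi =>
    (subsingleton_HD_toD_iff X i).2 (ModuleCat.subsingleton_of_isZero
      ((X.exactAt_of_isLE b i hi).isZero_homology))
  obtain ⟨G, hG, hfree, ⟨e⟩⟩ := exists_free_resolution (DRing.toD X) b
  haveI : ∀ i, Module.Free P (G.X i) := hfree
  haveI : G.IsKProjective := isKProjective b fun i => Module.Projective.of_free
  obtain ⟨g, hg⟩ := exists_map_eq e.hom
  haveI : QuasiIso g := (DerivedCategory.isIso_Q_map_iff_quasiIso (C := ModuleCat.{u} P) g).1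
    (by rw [hg]; infer_instance)
  have hGflat : ∀ i, Module.Flat P (G.X i) := fun i => Module.Flat.of_free
  have hGac : ∀ i, S.Acyc (G.X i) := fun i => @FlatCut.acyc_of_flat P _ P' _ _ S (G.X i) _ _ (hGflat i)
  have hI : ‹Algebra P P'› = (algebraMap P P').toAlgebra := Algebra.algebra_ext _ _ fun _ => rfl
  have hq : QuasiIso ((eCx (algebraMap P P')).map g) :=
    @quasiIso_eCx_of_acyc P P' _ _ (algebraMap P P') _ hI S G X g ‹QuasiIso g› b b hG
      ‹X.IsStrictlyLE b› hGac hX
  haveI := DQC.hasLBaseChange (algebraMap P P')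
  have h1 := DBaseChange.pc_obj (algebraMap P P') (pc_of_iso e.symm h)
  exact pc_of_iso (DBaseChange.valueIso (algebraMap P P') G
    (DBaseChange.adapted_of_flat G b (DBaseChange.flat_of_free hfree)) ≪≫
      asIso (DerivedCategory.Q.map ((eCx (algebraMap P P')).map g))) h1

variable {A A' : Type u} [CommRing A] [CommRing A'] [Algebra P A] [Algebra A A'] [Algebra P' A'] [Algebra P A']
  [IsScalarTower P P' A'] [IsScalarTower P A A'] [Algebra.IsPushout P P' A A']

/-- Base change of relative pseudo-coherence along a square with acyclic flat modules. -/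
theorem pv_eCx_of_acyc (S : FlatCut P P') (F : DRing.Cx A) (b : ℤ) [F.IsStrictlyLE b]
    (hF : ∀ i, S.Acyc ((rS (algebraMap P A)).obj (F.X i))) {m : ℤ}
    (h : PV (algebraMap P A) m (DRing.toD F)) :
    PV (algebraMap P' A') m (DRing.toD ((eCx (algebraMap A A')).obj F)) := by
  let X : DRing.Cx P := ((rS (algebraMap P A)).mapHomologicalComplex (ComplexShape.up ℤ)).obj F
  haveI : X.IsStrictlyLE b := by
    rw [CochainComplex.isStrictlyLE_iff]
    exact fun i hi => (rS (algebraMap P A)).map_isZero (F.isZero_of_isStrictlyLE b i hi)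
  have h1 := pc_eCx_of_acyc S X b hF
    (pc_of_iso ((rS (algebraMap P A)).mapDerivedCategoryFactors.app F) h)
  exact pc_of_iso (DerivedCategory.Q.mapIso (sqIso P P' A A' F) ≪≫
    ((rS (algebraMap P' A')).mapDerivedCategoryFactors.app _).symm) h1

end Groth.Agent.RelPC8
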